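import Mathlib.FieldTheory.IsAlgClosed.AlgebraicClosure
import Mathlib.FieldTheory.IsAlgClosed.Basic
import Mathlib.RingTheory.Etale.Pi
import Mathlib.RingTheory.Etale.Basic
import Mathlib.RingTheory.Finiteness.ModuleFinitePresentation
import Mathlib.RingTheory.QuasiFinite.Basic
import Mathlib.RingTheory.Localization.Away.Lemmas
import Mathlib.RingTheory.Nilpotent.Lemmas
import Mathlib.RingTheory.Spectrum.Prime.Topology

/-!
# Quasi-finite algebras over products of algebraically closed fields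

Up to nilpotents such an algebra is a finite product of quotients of the base by idempotents.
-/

set_option autoImplicit false

universe u

open scoped TensorProduct

noncomputable section

namespace GrothLib.QFDecomp18

section prodFields

variable {ι : Type u} (K : ι → Type u) [∀ i, Field (K i)]

theorem exists_mul_mul_eq (a : ∀ i, K i) : ∃ b, a * b * a = a := by
  classical
  refine ⟨fun i => (a i)⁻¹, funext fun i => ?_⟩
  rcases eq_or_ne (a i) 0 with h | h
  · simp [Pi.mul_apply, h]
  · simp [Pi.mul_apply, h]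

theorem isMaximal_of_isPrime (p : Ideal (∀ i, K i)) [p.IsPrime] : p.IsMaximal := by
  refine Ideal.Quotient.maximal_of_isField p ⟨exists_pair_ne _, mul_comm, fun {x} hx => ?_⟩
  obtain ⟨a, rfl⟩ := Ideal.Quotient.mk_surjective x
  obtain ⟨b, hb⟩ := exists_mul_mul_eq K a
  refine ⟨Ideal.Quotient.mk p b, ?_⟩
  have h0 : Ideal.Quotient.mk p a * (Ideal.Quotient.mk p a * Ideal.Quotient.mk p b - 1) = 0 := by
    rw [mul_sub, mul_one, ← map_mul, ← map_mul, sub_eq_zero]
    congr 1
    rw [← mul_comm (a * b), hb]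
  exact sub_eq_zero.1 ((mul_eq_zero.1 h0).resolve_left hx)

theorem isAlgClosed_quotient [∀ i, IsAlgClosed (K i)] (p : Ideal (∀ i, K i)) [hp : p.IsMaximal] :
    letI := Ideal.Quotient.field p
    IsAlgClosed ((∀ i, K i) ⧸ p) := by
  letI := Ideal.Quotient.field p
  refine IsAlgClosed.of_exists_root _ fun f hf hirr => ?_
  obtain ⟨q, hq, hdeg, hmon⟩ := Polynomial.lifts_and_degree_eq_and_monic
    ((Polynomial.mem_lifts _).2 (Polynomial.map_surjective _ Ideal.Quotient.mk_surjective f)) hf
  have hpos : 0 < f.natDegree := hirr.natDegree_pos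
  have : ∀ i, ∃ z : K i, (q.map (Pi.evalRingHom K i)).eval z = 0 := fun i => by
    refine IsAlgClosed.exists_root _ fun h => ?_
    rw [(hmon.degree_map _), hdeg, Polynomial.degree_eq_natDegree hf.ne_zero] at h
    exact hpos.ne' (by exact_mod_cast h)
  choose z hz using this
  refine ⟨Ideal.Quotient.mk p z, ?_⟩
  have hz' : q.eval z = 0 := funext fun i => by
    have := hz i
    rw [Polynomial.eval_map] at this
    change Pi.evalRingHom K i (q.eval z) = 0
    rw [← Polynomial.eval₂_hom, ← this]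
    rfl
  rw [← hq, Polynomial.eval_map, Polynomial.eval₂_hom, hz', map_zero]

end prodFields

variable {R : Type u} [CommRing R] (hR : ∀ a : R, ∃ b, a * b * a = a)

include hR in
/-- Finitely generated ideals are generated by idempotents. -/
theorem exists_idem {I : Ideal R} (hI : I.FG) : ∃ e : R, IsIdempotentElem e ∧ I = Ideal.span {e} :=
  (Ideal.isIdempotentElem_iff_of_fg I hI).1 (le_antisymm Ideal.mul_le_left fun a ha => by
    obtain ⟨b, hb⟩ := hR a
    rw [← hb]
    exact Ideal.mul_mem_mul (Ideal.mul_mem_right _ _ ha) ha)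

variable (B : Type u) [CommRing B] [Algebra R B]

/-- `B` is, up to nilpotents, split over the closed set of `I`. -/
def SplitMod (I : Ideal R) : Prop :=
  ∃ (S : Type u) (_ : Finite S) (Ψ : B →ₐ[R] (S → R ⧸ I)), Function.Surjective Ψ ∧
    RingHom.ker Ψ ≤ (I.map (algebraMap R B)).radical

variable {B}

theorem SplitMod.mono {I J : Ideal R} (h : SplitMod B I) (hIJ : I ≤ J) : SplitMod B J := by
  classical
  obtain ⟨S, hS, Ψ, hsurj, hker⟩ := h
  haveI := Fintype.ofFinite S
  let q : (S → R ⧸ I) →ₐ[R] (S → R ⧸ J) :=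
    Pi.algHom R _ fun s => (Ideal.Quotient.factorₐ R hIJ).comp (Pi.evalAlgHom R (fun _ : S => R ⧸ I) s)
  refine ⟨S, hS, q.comp Ψ, fun t => ?_, fun y hy => ?_⟩
  · choose r hr using fun s => Ideal.Quotient.mk_surjective (t s)
    obtain ⟨y, hy⟩ := hsurj fun s => Ideal.Quotient.mk I (r s)
    refine ⟨y, funext fun s => ?_⟩
    change Ideal.Quotient.factor hIJ (Ψ y s) = t s
    rw [hy, Ideal.Quotient.factor_mk, hr]
  · choose r hr using fun s => Ideal.Quotient.mk_surjective (Ψ y s)
    choose b hb using fun s => hsurj (Pi.single s 1)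
    have hrJ : ∀ s, r s ∈ J := fun s => by
      have := congrFun (RingHom.mem_ker.1 hy) s
      change Ideal.Quotient.factor hIJ (Ψ y s) = 0 at this
      rw [← hr s, Ideal.Quotient.factor_mk] at this
      exact Ideal.Quotient.eq_zero_iff_mem.1 this
    let z := ∑ s, r s • b s
    have hz : z ∈ J.map (algebraMap R B) := Ideal.sum_mem _ fun s _ => by
      rw [Algebra.smul_def]
      exact Ideal.mul_mem_right _ _ (Ideal.mem_map_of_mem _ (hrJ s))
    have hyz : y - z ∈ RingHom.ker Ψ := by
      rw [RingHom.mem_ker, map_sub, map_sum, sub_eq_zero]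
      funext t
      rw [Finset.sum_apply]
      simp only [map_smul, hb, Pi.smul_apply]
      rw [Finset.sum_eq_single t]
      · rw [Pi.single_eq_same, ← hr t, Algebra.smul_def, mul_one]
        rfl
      · intro s _ hst
        rw [Pi.single_eq_of_ne (Ne.symm hst), smul_zero]
      · exact fun h => (h (Finset.mem_univ t)).elim
    rw [show y = (y - z) + z by ring]
    exact Ideal.add_mem _ (Ideal.radical_mono (Ideal.map_mono hIJ) (hker hyz)) (Ideal.le_radical hz)

/-- A polynomial identity modulo `p` holds modulo a finitely generated ideal inside `p`. -/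
theorem exists_fg_le {p : Ideal R} (s : Finset R) (hs : ∀ a ∈ s, a ∈ p) :
    ∃ I : Ideal R, I.FG ∧ I ≤ p ∧ ∀ a ∈ s, a ∈ I :=
  ⟨Ideal.span (s : Set R), ⟨s, rfl⟩, Ideal.span_le.2 fun a ha => hs a ha, fun _ ha => Ideal.subset_span ha⟩

variable [Algebra.FinitePresentation R B] [Algebra.QuasiFinite R B]

include hR in
/-- Splitting near a prime with algebraically closed residue field. -/
theorem exists_splitMod (p : Ideal R) [p.IsMaximal]
    (hK : letI := Ideal.Quotient.field p; IsAlgClosed (R ⧸ p)) :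
    ∃ I : Ideal R, I.FG ∧ I ≤ p ∧ SplitMod B I := by
  classical
  letI := Ideal.Quotient.field p
  haveI := hK
  let K := R ⧸ p
  let BK := K ⊗[R] B
  haveI : Algebra.QuasiFinite K BK := inferInstance
  haveI : Module.Finite K BK := Algebra.QuasiFinite.iff_of_isArtinianRing.1 inferInstance
  haveI : IsArtinianRing BK := IsArtinianRing.of_finite K BK
  let S := BK →ₐ[K] K
  haveI : Finite S := inferInstance
  haveI := Fintype.ofFinite S
  let φ : S → (B →ₐ[R] K) := fun s =>
    (s.restrictScalars R).comp (Algebra.TensorProduct.includeRight : B →ₐ[R] BK)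
  have hφinj : Function.Injective φ := fun s t h => by
    refine Algebra.TensorProduct.ext (Algebra.ext_id ..) ?_
    exact h
  have hnil : ∀ b : B, (∀ s, φ s b = 0) → IsNilpotent ((1 : K) ⊗ₜ[R] b) := by
    intro b hb
    rw [nilpotent_iff_mem_prime]
    intro J hJ
    haveI : Algebra.IsIntegral K (BK ⧸ J) := inferInstance
    haveI : IsDomain (BK ⧸ J) := Ideal.Quotient.isDomain J
    let e : K ≃ₐ[K] BK ⧸ J := AlgEquiv.ofBijective (Algebra.ofId K (BK ⧸ J))
      IsAlgClosed.algebraMap_bijective_of_isIntegral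
    let s : S := e.symm.toAlgHom.comp (Ideal.Quotient.mkₐ K J)
    have := hb s
    change e.symm (Ideal.Quotient.mk J ((1 : K) ⊗ₜ[R] b)) = 0 at this
    rwa [EmbeddingLike.map_eq_zero_iff, Ideal.Quotient.eq_zero_iff_mem] at this
  -- values separating the points
  have hsep : ∀ s : S, ∃ b : B, ∀ t, φ t b = if t = s then 1 else 0 := by
    intro s
    have hne : ∀ t, t ≠ s → ∃ b : B, φ t b = 0 ∧ φ s b = 1 := fun t ht => by
      obtain ⟨b, hb⟩ : ∃ b, φ t b ≠ φ s b := by
        by_contra h
        push Not at h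
        exact ht (hφinj (AlgHom.ext h))
      obtain ⟨r, hr⟩ := Ideal.Quotient.mk_surjective (φ s b - φ t b)⁻¹
      obtain ⟨c, hc⟩ := Ideal.Quotient.mk_surjective (φ t b)
      refine ⟨r • (b - algebraMap R B c), ?_, ?_⟩
      · rw [map_smul, map_sub, AlgHom.commutes, ← hc]
        change r • (_ - _) = (0 : K)
        rw [show (algebraMap R K) c = Ideal.Quotient.mk p c from rfl, sub_self, smul_zero]
      · rw [map_smul, map_sub, AlgHom.commutes, Algebra.smul_def]
        change Ideal.Quotient.mk p r * (φ s b - Ideal.Quotient.mk p c) = 1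
        rw [hr, hc, inv_mul_cancel₀ (sub_ne_zero.2 (Ne.symm hb))]
    choose b hb0 hb1 using hne
    refine ⟨∏ t ∈ (Finset.univ.erase s).attach, b t.1 (Finset.ne_of_mem_erase t.2), fun t => ?_⟩
    rw [map_prod]
    split_ifs with h
    · subst h
      exact Finset.prod_eq_one fun x _ => hb1 _ _
    · exact Finset.prod_eq_zero (Finset.mem_attach _ ⟨t, Finset.mem_erase.2 ⟨h, Finset.mem_univ _⟩⟩) (hb0 _ _)
  choose bs hbs using hsep
  -- lift the points
  obtain ⟨n, π, hπ, hfg⟩ := Algebra.FinitePresentation.out (R := R) (A := B)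
  obtain ⟨G, hG⟩ := hfg
  choose c hc using fun (s : S) (j : Fin n) => Ideal.Quotient.mk_surjective (φ s (π (MvPolynomial.X j)))
  choose Pb hPb using fun s => hπ (bs s)
  have hcomp : ∀ s, (Ideal.Quotient.mkₐ R p).comp (MvPolynomial.aeval (c s)) = (φ s).comp π := fun s =>
    MvPolynomial.algHom_ext fun j => by simp [hc]
  obtain ⟨I₁, hI₁fg, hI₁p, hI₁⟩ := exists_fg_le (p := p)
    ((Finset.univ ×ˢ G).image (fun x : S × MvPolynomial (Fin n) R => MvPolynomial.aeval (c x.1) x.2) ∪
      (Finset.univ ×ˢ Finset.univ).image (fun x : S × S =>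
        MvPolynomial.aeval (c x.1) (Pb x.2) - if x.1 = x.2 then 1 else 0)) (by
    intro a ha
    simp only [Finset.mem_union, Finset.mem_image, Finset.mem_product, Finset.mem_univ, true_and] at ha
    rcases ha with ⟨⟨s, g⟩, hg, rfl⟩ | ⟨⟨s, t⟩, rfl⟩
    · rw [← Ideal.Quotient.eq_zero_iff_mem]
      have h := AlgHom.congr_fun (hcomp s) g
      rw [AlgHom.comp_apply, AlgHom.comp_apply] at h
      refine h.trans ?_
      have hg0 : π g = 0 := RingHom.mem_ker.1 ((show g ∈ RingHom.ker π.toRingHom from hG ▸ Ideal.subset_span hg))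
      rw [hg0, map_zero]
    · dsimp only
      rw [← Ideal.Quotient.eq_zero_iff_mem, map_sub]
      have h := AlgHom.congr_fun (hcomp s) (Pb t)
      rw [AlgHom.comp_apply, AlgHom.comp_apply, hPb, hbs] at h
      rw [show Ideal.Quotient.mk p ((MvPolynomial.aeval (c s)) (Pb t)) = _ from h]
      split_ifs <;> simp)
  let Φ : MvPolynomial (Fin n) R →ₐ[R] (S → R ⧸ I₁) :=
    Pi.algHom R _ fun s => (Ideal.Quotient.mkₐ R I₁).comp (MvPolynomial.aeval (c s))
  have hΦ : RingHom.ker π.toRingHom ≤ RingHom.ker Φ.toRingHom := by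
    rw [← hG, Ideal.span_le]
    intro g hg
    refine RingHom.mem_ker.2 (funext fun s => Ideal.Quotient.eq_zero_iff_mem.2 (hI₁ _ ?_))
    exact Finset.mem_union_left _ (Finset.mem_image.2 ⟨(s, g), Finset.mem_product.2 ⟨Finset.mem_univ _, hg⟩, rfl⟩)
  let Ψ : B →ₐ[R] (S → R ⧸ I₁) := AlgHom.liftOfSurjective π hπ Φ hΦ
  have hΨ : ∀ P, Ψ (π P) = Φ P := fun P => AlgHom.liftOfSurjective_apply π hπ Φ hΦ P
  have hΨb : ∀ t, Ψ (bs t) = Pi.single t 1 := fun t => by
    rw [← hPb t, hΨ]
    funext s
    change Ideal.Quotient.mk I₁ (MvPolynomial.aeval (c s) (Pb t)) = _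
    have := Ideal.Quotient.eq_zero_iff_mem.2 (hI₁ (MvPolynomial.aeval (c s) (Pb t) - if s = t then 1 else 0)
      (Finset.mem_union_right _ (Finset.mem_image.2 ⟨(s, t), by simp, rfl⟩)))
    rw [map_sub, sub_eq_zero] at this
    rw [this, Pi.single_apply]
    split_ifs <;> simp
  have hsurj : Function.Surjective Ψ := fun w => by
    choose r hr using fun s => Ideal.Quotient.mk_surjective (w s)
    refine ⟨∑ s, r s • bs s, ?_⟩
    funext t
    rw [map_sum, Finset.sum_apply, Finset.sum_eq_single t]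
    · rw [map_smul, hΨb, Pi.smul_apply, Pi.single_eq_same, ← hr t, Algebra.smul_def, mul_one]
      rfl
    · intro s _ hst
      rw [map_smul, hΨb, Pi.smul_apply, Pi.single_eq_of_ne (Ne.symm hst), smul_zero]
    · exact fun h => (h (Finset.mem_univ t)).elim
  haveI : Algebra.Etale R (R ⧸ I₁) := by
    obtain ⟨e, he, rfl⟩ := exists_idem hR hI₁fg
    haveI : IsLocalization.Away (1 - e) (R ⧸ Ideal.span {e}) :=
      IsLocalization.away_of_isIdempotentElem he.one_sub (Ideal.mk_ker.trans (by rw [sub_sub_cancel]))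
        Ideal.Quotient.mk_surjective
    exact Algebra.Etale.of_isLocalizationAway (1 - e)
  obtain ⟨H, hH⟩ := Algebra.FinitePresentation.ker_fG_of_surjective Ψ hsurj
  have hφΨ : ∀ s b, φ s b = Ideal.Quotient.factor hI₁p (Ψ b s) := fun s b => by
    obtain ⟨P, rfl⟩ := hπ b
    rw [hΨ]
    exact (AlgHom.congr_fun (hcomp s) P).symm
  have key : ∀ g ∈ H, ∃ s : Finset R, (∀ a ∈ s, a ∈ p) ∧ g ∈ ((Ideal.span (s : Set R)).map (algebraMap R B)).radical := by
    intro g hg
    have hg0 : Ψ g = 0 := RingHom.mem_ker.1 (show g ∈ RingHom.ker Ψ.toRingHom from hH ▸ Ideal.subset_span hg)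
    obtain ⟨N, hN⟩ := hnil g fun s => by rw [hφΨ, hg0]; simp
    rw [Algebra.TensorProduct.tmul_pow, one_pow] at hN
    have hmem : g ^ N ∈ p.map (algebraMap R B) := by
      let e := Algebra.TensorProduct.quotIdealMapEquivTensorQuot B p
      have h' : (g ^ N) ⊗ₜ[R] (1 : R ⧸ p) = 0 := by
        have := congrArg (Algebra.TensorProduct.comm R K B) hN
        simpa using this
      have h2 : e (Ideal.Quotient.mk _ (g ^ N)) = 0 :=
        (Algebra.TensorProduct.quotIdealMapEquivTensorQuot_mk _ _ _).trans h'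
      exact Ideal.Quotient.eq_zero_iff_mem.1 (by simpa using congrArg e.symm h2)
    obtain ⟨T, hT, hgT⟩ := Submodule.mem_span_finite_of_mem_span (show g ^ N ∈ Submodule.span B (algebraMap R B '' p) from hmem)
    choose a ha hab using fun x (hx : x ∈ T) => hT hx
    refine ⟨T.attach.image fun x => a x.1 x.2, fun r hr => ?_, N, ?_⟩
    · obtain ⟨x, -, rfl⟩ := Finset.mem_image.1 hr
      exact ha x.1 x.2
    · refine (Ideal.span_le (I := (Ideal.span _).map (algebraMap R B))).2 (fun x hx => ?_) hgT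
      rw [← hab x hx]
      exact Ideal.mem_map_of_mem _ (Ideal.subset_span (Finset.mem_image.2 ⟨⟨x, hx⟩, Finset.mem_attach _ _, rfl⟩))
  choose s hsp hgs using key
  obtain ⟨I₂, hI₂fg, hI₂p, hI₂⟩ := exists_fg_le (p := p) (H.attach.biUnion fun g => s g.1 g.2) (fun r hr => by
    obtain ⟨g, -, hr⟩ := Finset.mem_biUnion.1 hr
    exact hsp _ _ r hr)
  refine ⟨I₁ ⊔ I₂, Submodule.FG.sup hI₁fg hI₂fg, sup_le hI₁p hI₂p, ?_⟩
  let q : (S → R ⧸ I₁) →ₐ[R] (S → R ⧸ I₁ ⊔ I₂) :=
    Pi.algHom R _ fun s => (Ideal.Quotient.factorₐ R le_sup_left).comp (Pi.evalAlgHom R (fun _ : S => R ⧸ I₁) s)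
  refine ⟨ULift.{u} (Fin (Nat.card S)), inferInstance, ?_⟩
  let e : ULift.{u} (Fin (Nat.card S)) ≃ S := Equiv.ulift.trans (Finite.equivFin S).symm
  refine ⟨(Pi.algHom R _ fun i => Pi.evalAlgHom R (fun _ : S => R ⧸ I₁ ⊔ I₂) (e i)).comp (q.comp Ψ), fun w => ?_, fun y hy => ?_⟩
  · choose r hr using fun i => Ideal.Quotient.mk_surjective (w i)
    obtain ⟨y, hy⟩ := hsurj fun t => Ideal.Quotient.mk I₁ (r (e.symm t))
    refine ⟨y, funext fun i => ?_⟩
    change Ideal.Quotient.factor le_sup_left (Ψ y (e i)) = w i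
    rw [hy, Ideal.Quotient.factor_mk, e.symm_apply_apply, hr]
  · choose r hr using fun t => Ideal.Quotient.mk_surjective (Ψ y t)
    have hrJ : ∀ t, r t ∈ I₁ ⊔ I₂ := fun t => by
      have := congrFun (RingHom.mem_ker.1 hy) (e.symm t)
      change Ideal.Quotient.factor le_sup_left (Ψ y (e (e.symm t))) = 0 at this
      rw [e.apply_symm_apply, ← hr t, Ideal.Quotient.factor_mk] at this
      exact Ideal.Quotient.eq_zero_iff_mem.1 this
    let z := ∑ t, r t • bs t
    have hz : z ∈ (I₁ ⊔ I₂).map (algebraMap R B) := Ideal.sum_mem _ fun t _ => by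
      rw [Algebra.smul_def]
      exact Ideal.mul_mem_right _ _ (Ideal.mem_map_of_mem _ (hrJ t))
    have hyz : y - z ∈ RingHom.ker Ψ.toRingHom := by
      refine RingHom.mem_ker.2 (funext fun t => ?_)
      change Ψ (y - z) t = 0
      rw [map_sub, map_sum, Pi.sub_apply, Finset.sum_apply, Finset.sum_eq_single t]
      · rw [map_smul, hΨb, Pi.smul_apply, Pi.single_eq_same, ← hr t, Algebra.smul_def, mul_one]
        exact sub_self _
      · intro s _ hst
        rw [map_smul, hΨb, Pi.smul_apply, Pi.single_eq_of_ne (Ne.symm hst), smul_zero]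
      · exact fun h => (h (Finset.mem_univ t)).elim
    rw [← hH] at hyz
    rw [show y = (y - z) + z by ring]
    refine Ideal.add_mem _ ((Ideal.span_le (I := ((I₁ ⊔ I₂).map (algebraMap R B)).radical)).2 (fun g hg => ?_) hyz) (Ideal.le_radical hz)
    refine Ideal.radical_mono (Ideal.map_mono ((Ideal.span_le.2 fun r hr => ?_).trans le_sup_right)) (hgs g hg)
    exact hI₂ r (Finset.mem_biUnion.2 ⟨⟨g, hg⟩, Finset.mem_attach _ _, hr⟩)

include hR in
/-- The global splitting. -/
theorem exists_split (hK : ∀ (p : Ideal R) [p.IsMaximal], letI := Ideal.Quotient.field p; IsAlgClosed (R ⧸ p))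
    (hmax : ∀ (p : Ideal R) [p.IsPrime], p.IsMaximal) :
    ∃ (T : Type u) (_ : Finite T) (e : T → R) (_ : ∀ t, IsIdempotentElem (e t))
      (Ψ : B →ₐ[R] (∀ t, R ⧸ Ideal.span {e t})),
      Function.Surjective Ψ ∧ RingHom.ker Ψ ≤ nilradical B := by
  classical
  choose I hIfg hIp hI using fun x : PrimeSpectrum R =>
    (haveI := hmax x.asIdeal; exists_splitMod hR (B := B) x.asIdeal (hK x.asIdeal))
  choose d hd hId using fun x => exists_idem hR (hIfg x)
  obtain ⟨G, hG⟩ := (isCompact_univ (X := PrimeSpectrum R)).elim_finite_subcover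
    (fun x => (PrimeSpectrum.basicOpen (1 - d x) : Set (PrimeSpectrum R)))
    (fun x => (PrimeSpectrum.basicOpen _).isOpen) (fun x _ => Set.mem_iUnion.2 ⟨x, fun h => by
      have h1 : d x ∈ x.asIdeal := hIp x ((hId x) ▸ Ideal.subset_span rfl)
      exact x.2.ne_top ((Ideal.eq_top_iff_one _).2 (by simpa using Ideal.add_mem _ h h1))⟩)
  obtain ⟨k, ⟨v⟩⟩ : ∃ k, Nonempty (Fin k ≃ G) := ⟨_, ⟨G.equivFin.symm⟩⟩
  let g : Fin k → R := fun i => 1 - d (v i).1
  let f : Fin k → R := fun i => g i * ∏ j ∈ Finset.Iio i, (1 - g j)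
  have hg : ∀ i, IsIdempotentElem (g i) := fun i => (hd _).one_sub
  have hf : ∀ i, IsIdempotentElem (f i) := fun i => by
    refine (hg i).mul ?_
    induction Finset.Iio i using Finset.induction with
    | empty => simpa using IsIdempotentElem.one
    | insert a s ha ih => rw [Finset.prod_insert ha]; exact (hg a).one_sub.mul ih
  have horth : ∀ i j, i < j → f i * f j = 0 := fun i j hij => by
    have h1 : (1 - g i) ∣ ∏ l ∈ Finset.Iio j, (1 - g l) := Finset.dvd_prod_of_mem _ (Finset.mem_Iio.2 hij)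
    obtain ⟨w, hw⟩ := h1
    simp only [f]
    rw [hw]
    have h0 : g i * (1 - g i) = 0 := by rw [mul_sub, mul_one, (hg i).eq, sub_self]
    calc g i * (∏ l ∈ Finset.Iio i, (1 - g l)) * (g j * ((1 - g i) * w))
        = g i * (1 - g i) * ((∏ l ∈ Finset.Iio i, (1 - g l)) * g j * w) := by ring
      _ = 0 := by rw [h0, zero_mul]
  have hcover : ∀ x : PrimeSpectrum R, ∃ i, f i ∉ x.asIdeal := fun x => by
    obtain ⟨y, hy, hxy⟩ := Set.mem_iUnion₂.1 (hG (Set.mem_univ x))
    have hne : (Finset.univ.filter fun i => g i ∉ x.asIdeal).Nonempty :=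
      ⟨v.symm ⟨y, hy⟩, Finset.mem_filter.2 ⟨Finset.mem_univ _, by simp only [g, v.apply_symm_apply]; exact hxy⟩⟩
    obtain ⟨i, hi, hmin⟩ := Finset.exists_minimal hne
    refine ⟨i, fun h => ?_⟩
    rcases x.2.mem_or_mem h with h | h
    · exact (Finset.mem_filter.1 hi).2 h
    · obtain ⟨j, hj, hjx⟩ := (Ideal.IsPrime.prod_mem_iff (hp := x.2)).1 h
      have hgj : g j ∈ x.asIdeal := by
        by_contra hgj
        exact absurd (hmin (Finset.mem_filter.2 ⟨Finset.mem_univ _, hgj⟩) (Finset.mem_Iio.1 hj).le) (not_le.2 (Finset.mem_Iio.1 hj))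
      exact x.2.ne_top ((Ideal.eq_top_iff_one _).2 (by simpa using Ideal.add_mem _ hgj hjx))
  have hsum : ∑ i, f i = 1 := by
    have hid : IsIdempotentElem (∑ i, f i) := by
      change (∑ i, f i) * ∑ i, f i = ∑ i, f i
      rw [Finset.sum_mul_sum]
      refine Finset.sum_congr rfl fun i _ => (Finset.sum_eq_single i (fun j _ hji => ?_) (by simp)).trans (hf i).eq
      rcases lt_or_gt_of_ne hji with h | h
      · rw [mul_comm]; exact horth j i h
      · exact horth i j h
    have hu : IsUnit (∑ i, f i) := by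
      by_contra hu
      obtain ⟨m, hm, hm'⟩ := exists_max_ideal_of_mem_nonunits hu
      haveI := hm.isPrime
      obtain ⟨i, hi⟩ := hcover ⟨m, hm.isPrime⟩
      refine hi ?_
      have : f i = f i * ∑ j, f j := by
        rw [Finset.mul_sum]
        refine ((Finset.sum_eq_single i (fun j _ hji => ?_) (by simp)).trans (hf i).eq).symm
        rcases lt_or_gt_of_ne hji with h | h
        · rw [mul_comm]; exact horth j i h
        · exact horth i j h
      rw [this]
      exact Ideal.mul_mem_left _ _ hm'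
    exact (IsIdempotentElem.iff_eq_one_of_isUnit hu).1 hid
  have hS : ∀ i : Fin k, SplitMod B (Ideal.span {1 - f i}) := fun i => by
    refine (hI (v i).1).mono ?_
    rw [hId, Ideal.span_singleton_le_span_singleton]
    -- `d = 1 - g` is a multiple of `1 - f`
    refine ⟨d (v i).1, ?_⟩
    have h0 : f i * d (v i).1 = 0 := by
      have : g i * d (v i).1 = 0 := by simp only [g]; rw [sub_mul, one_mul, (hd _).eq, sub_self]
      simp only [f]
      rw [mul_right_comm, this, zero_mul]
    rw [sub_mul, one_mul, h0, sub_zero]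
  choose S hSf Ψ hsurj hker using hS
  refine ⟨Σ i : ULift.{u} (Fin k), S i.down, inferInstance, fun t => 1 - f t.1.down, fun t => (hf _).one_sub,
    Pi.algHom R _ fun t => (Pi.evalAlgHom R (fun _ : S t.1.down => R ⧸ Ideal.span {1 - f t.1.down}) t.2).comp (Ψ t.1.down),
    fun w => ?_, fun y hy => ?_⟩
  · choose y hy using fun i : Fin k => hsurj i fun s => w ⟨⟨i⟩, s⟩
    refine ⟨∑ i, f i • y i, funext fun ⟨⟨i⟩, s⟩ => ?_⟩
    change Ψ i (∑ j, f j • y j) s = _
    rw [map_sum, Finset.sum_apply, Finset.sum_eq_single i]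
    · rw [map_smul, hy, Pi.smul_apply, Algebra.smul_def,
        show algebraMap R (R ⧸ Ideal.span {1 - f i}) (f i) = 1 from
          ((Ideal.Quotient.eq (I := Ideal.span {1 - f i})).2 (Ideal.mem_span_singleton'.2 ⟨-1, by ring⟩) :
            Ideal.Quotient.mk _ (f i) = Ideal.Quotient.mk _ 1), one_mul]
    · intro j _ hji
      rw [map_smul, Pi.smul_apply, Algebra.smul_def,
        show algebraMap R (R ⧸ Ideal.span {1 - f i}) (f j) = 0 from
          Ideal.Quotient.eq_zero_iff_mem.2 (Ideal.mem_span_singleton'.2 ⟨f j, by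
            rw [mul_sub, mul_one, sub_eq_self]
            rcases lt_or_gt_of_ne hji with h | h
            · exact horth j i h
            · rw [mul_comm]; exact horth i j h⟩), zero_mul]
    · exact fun h => (h (Finset.mem_univ i)).elim
  · have hyi : ∀ i : Fin k, ∃ N : ℕ, f i • y ^ N = 0 := fun i => by
      obtain ⟨N, hN⟩ := hker i (RingHom.mem_ker.2 (funext fun s => congrFun (RingHom.mem_ker.1 hy) ⟨⟨i⟩, s⟩))
      rw [Ideal.map_span, Set.image_singleton, Ideal.mem_span_singleton'] at hN
      obtain ⟨w, hw⟩ := hN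
      refine ⟨N, ?_⟩
      have h0 : f i * (1 - f i) = 0 := by rw [mul_sub, mul_one, (hf i).eq, sub_self]
      rw [Algebra.smul_def, ← hw, mul_left_comm, ← map_mul, h0, map_zero, mul_zero]
    choose N hN using hyi
    refine ⟨∑ i, N i, ?_⟩
    rw [← one_smul R (y ^ _), ← hsum, Finset.sum_smul]
    refine Finset.sum_eq_zero fun i _ => ?_
    obtain ⟨m, hm⟩ := Nat.exists_eq_add_of_le (Finset.single_le_sum (f := N) (fun _ _ => Nat.zero_le _) (Finset.mem_univ i))
    rw [hm, pow_add, ← smul_mul_assoc, hN, zero_mul]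

end GrothLib.QFDecomp18
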